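import Mathlib.Algebra.Homology.Refinements
import Mathlib.Algebra.Homology.Embedding.CochainComplex
import Mathlib.CategoryTheory.Preadditive.Injective.Basic
import Mathlib.CategoryTheory.Abelian.Refinements

/-!
# One step of a Cartan–Eilenberg resolution
-/

universe v u

open CategoryTheory CategoryTheory.Limits

namespace Groth.Agent.CohDerLib.CE.Step

variable {A : Type u} [Category.{v} A] [Abelian A] [EnoughInjectives A]

lemma exists_mono_injective (X : A) :
    ∃ (J : A) (ι : X ⟶ J), Injective J ∧ Mono ι ∧ (IsZero X → IsZero J) := by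
  by_cases h : IsZero X
  · exact ⟨X, 𝟙 X, ⟨fun _ _ _ => ⟨0, h.eq_of_tgt _ _⟩⟩, inferInstance, id⟩
  · exact ⟨Injective.under X, Injective.ι X, inferInstance, inferInstance, fun h' => absurd h' h⟩

variable (K : CochainComplex A ℤ)

/-- the injective hull data in one degree -/
structure Data (p : ℤ) where
  JB : A
  JH : A
  hJB : Injective JB
  hJH : Injective JH
  e : K.X p ⟶ JB
  g : K.X p ⟶ JH
  hmono : ∀ ⦃T : A⦄ (i : ℤ) (_ : i + 1 = p) (x : T ⟶ K.X i), x ≫ K.d i p ≫ e = 0 → x ≫ K.d i p = 0
  hg : ∀ i, K.d i p ≫ g = 0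
  ιH : K.homology p ⟶ JH
  hιH : Mono ιH
  hgι : K.iCycles p ≫ g = K.homologyπ p ≫ ιH
  zB : IsZero (K.X (p - 1)) ∨ IsZero (K.X p) → IsZero JB
  zH : IsZero (K.X p) → IsZero JH

lemma nonempty_data (p : ℤ) : Nonempty (Data K p) := by
  obtain ⟨JB, ιB, hJB, hmB, hzB⟩ := exists_mono_injective (Abelian.image (K.d (p - 1) p))
  obtain ⟨JH, ιH, hJH, hmH, hzH⟩ := exists_mono_injective (K.homology p)
  refine ⟨⟨JB, JH, hJB, hJH, Injective.factorThru ιB (Abelian.image.ι _),
    K.pOpcycles p ≫ Injective.factorThru ιH (K.homologyι p), fun T i hi x hx => ?_,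
    fun i => by rw [K.d_pOpcycles_assoc, zero_comp], ιH, hmH, ?_, fun h => hzB ?_,
    fun h => hzH ?_⟩⟩
  · obtain rfl : i = p - 1 := by omega
    have e1 : K.d (p - 1) p ≫ Injective.factorThru ιB (Abelian.image.ι (K.d (p - 1) p)) =
        Abelian.factorThruImage (K.d (p - 1) p) ≫ ιB :=
      (congrArg (· ≫ Injective.factorThru ιB _) (Abelian.image.fac (K.d (p - 1) p))).symm.trans
        (by simp only [Category.assoc, Injective.comp_factorThru])
    rw [e1, ← Category.assoc, ← zero_comp (f := ιB), cancel_mono] at hx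
    conv_lhs => rw [← Abelian.image.fac (K.d (p - 1) p)]
    rw [reassoc_of% hx, zero_comp]
  · rw [← K.homology_π_ι_assoc p, Injective.comp_factorThru]
  · rcases h with h | h
    · exact IsZero.of_epi (Abelian.factorThruImage (K.d (p - 1) p)) h
    · exact IsZero.of_mono (Abelian.image.ι (K.d (p - 1) p)) h
  · exact IsZero.of_epi (K.homologyπ p) (IsZero.of_mono (K.iCycles p) h)

theorem exists_step (n : ℤ) [K.IsStrictlyGE n] :
    ∃ (I : CochainComplex A ℤ) (f : K ⟶ I), I.IsStrictlyGE n ∧
      (∀ p, Injective (I.X p) ∧ Injective (I.cycles p) ∧ Injective (I.homology p)) ∧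
      Mono f ∧ ∀ p, Mono (HomologicalComplex.homologyMap f p) := by
  let D' : ∀ p, Data K p := fun p => (nonempty_data K p).some
  have iB : ∀ p, Injective (D' p).JB := fun p => (D' p).hJB
  have iH : ∀ p, Injective (D' p).JH := fun p => (D' p).hJH
  let X : ℤ → A := fun p => ((D' p).JB ⊞ (D' p).JH) ⊞ (D' (p + 1)).JB
  let dI : ∀ p, X p ⟶ X (p + 1) := fun p => biprod.snd ≫ biprod.inl ≫ biprod.inl
  let I : CochainComplex A ℤ := CochainComplex.of X dI fun p => by simp [dI]
  have hId : ∀ p, I.d p (p + 1) = dI p := fun p => by simp [I]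
  let fc : ∀ p, K.X p ⟶ X p := fun p =>
    biprod.lift (biprod.lift (D' p).e (D' p).g) (K.d p (p + 1) ≫ (D' (p + 1)).e)
  let f : K ⟶ I :=
    { f := fc
      comm' := fun i j (hij : i + 1 = j) => by
        subst hij
        rw [hId]
        apply biprod.hom_ext
        · apply biprod.hom_ext
          · simp [fc, dI]
          · simp [fc, dI, (D' (i + 1)).hg]
        · simp [fc, dI] }
  have hI : ∀ i, i < n → IsZero (I.X i) := fun i hi => by
    have h₁ : IsZero (D' i).JB := (D' i).zB (Or.inr (K.isZero_of_isStrictlyGE n i hi))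
    have h₂ : IsZero (D' i).JH := (D' i).zH (K.isZero_of_isStrictlyGE n i hi)
    have h₃ : IsZero (D' (i + 1)).JB :=
      (D' (i + 1)).zB (Or.inl (K.isZero_of_isStrictlyGE n _ (by omega)))
    rw [IsZero.iff_id_eq_zero]
    change 𝟙 (X i) = 0
    apply biprod.hom_ext'
    · apply biprod.hom_ext'
      · exact h₁.eq_of_src _ _
      · exact h₂.eq_of_src _ _
    · exact h₃.eq_of_src _ _
  -- cycles
  have hcyc : ∀ p, K.iCycles p ≫ K.d p (p + 1) = 0 := fun p => K.iCycles_d p (p + 1)
  have hsnd : ∀ p, I.iCycles p ≫ (biprod.snd : X p ⟶ _) = 0 := fun p => by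
    have := I.iCycles_d p (p + 1)
    rw [hId] at this
    have h' := congrArg (fun φ => φ ≫ (biprod.fst : X (p + 1) ⟶ _) ≫ biprod.fst) this
    simpa [dI] using h'
  let s : ∀ p, (D' p).JB ⊞ (D' p).JH ⟶ I.cycles p := fun p =>
    I.liftCycles (biprod.inl : _ ⟶ X p) (p + 1) (by simp) (by rw [hId]; simp [dI])
  let eZ : ∀ p, I.cycles p ≅ (D' p).JB ⊞ (D' p).JH := fun p =>
    { hom := I.iCycles p ≫ (biprod.fst : X p ⟶ _)
      inv := s p
      hom_inv_id := by
        rw [← cancel_mono (I.iCycles p)]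
        simp only [s, Category.assoc, HomologicalComplex.liftCycles_i, Category.id_comp]
        conv_rhs => rw [← Category.comp_id (I.iCycles p)]
        rw [show 𝟙 (I.X p) = (biprod.fst : X p ⟶ _) ≫ biprod.inl + biprod.snd ≫ biprod.inr from
          biprod.total.symm, Preadditive.comp_add, ← Category.assoc (I.iCycles p) biprod.snd,
          hsnd, zero_comp, add_zero]
      inv_hom_id := by simp [s] }
  let a : ∀ p, I.homology p ⟶ (D' p).JH := fun p =>
    I.homologyι p ≫ I.descOpcycles ((biprod.fst : X p ⟶ _) ≫ biprod.snd) (p - 1) (by simp) (by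
      obtain ⟨q, rfl⟩ : ∃ q, p = q + 1 := ⟨p - 1, by omega⟩
      rw [show q + 1 - 1 = q by omega, hId]
      simp [dI])
  have ha : ∀ p, I.homologyπ p ≫ a p = I.iCycles p ≫ (biprod.fst : X p ⟶ _) ≫ biprod.snd :=
    fun p => by simp [a]
  have hbd : ∀ p, (biprod.inl ≫ s p) ≫ I.homologyπ p = 0 := fun p => by
    obtain ⟨q, rfl⟩ : ∃ q, p = q + 1 := ⟨p - 1, by omega⟩
    have : biprod.inl ≫ s (q + 1) = (biprod.inr : _ ⟶ X q) ≫ I.toCycles q (q + 1) := by
      rw [← cancel_mono (I.iCycles (q + 1))]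
      simp [s, hId, dI]
    rw [this, Category.assoc, I.toCycles_comp_homologyπ, comp_zero]
  let eH : ∀ p, I.homology p ≅ (D' p).JH := fun p =>
    { hom := a p
      inv := biprod.inr ≫ s p ≫ I.homologyπ p
      hom_inv_id := by
        rw [← cancel_epi (I.homologyπ p), ← Category.assoc, ha, Category.comp_id]
        conv_rhs => rw [← (eZ p).hom_inv_id_assoc (I.homologyπ p)]
        change _ = (I.iCycles p ≫ biprod.fst) ≫ _
        conv_rhs => rw [← Category.id_comp ((eZ p).inv ≫ _), ← biprod.total, Preadditive.add_comp,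
          Category.assoc, Category.assoc, ← Category.assoc biprod.inl]
        rw [show (eZ p).inv = s p from rfl, hbd, comp_zero, zero_add]
        simp only [Category.assoc]
      inv_hom_id := by
        simp [ha, s] }
  refine ⟨I, f, ?_, fun p => ⟨show Injective (X p) from inferInstance,
    Injective.of_iso (eZ p).symm inferInstance, Injective.of_iso (eH p).symm inferInstance⟩,
    ?_, fun p => ?_⟩
  · rw [CochainComplex.isStrictlyGE_iff]
    exact fun i hi => hI i hi
  · refine HomologicalComplex.mono_of_mono_f f fun p => Preadditive.mono_of_cancel_zero _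
      fun {T} x hx => ?_
    have hx1 : x ≫ (D' p).e = 0 := by
      simpa [f, fc] using congrArg (fun φ => φ ≫ (biprod.fst : X p ⟶ _) ≫ biprod.fst) hx
    have hx2 : x ≫ (D' p).g = 0 := by
      simpa [f, fc] using congrArg (fun φ => φ ≫ (biprod.fst : X p ⟶ _) ≫ biprod.snd) hx
    have hx3 : x ≫ K.d p (p + 1) ≫ (D' (p + 1)).e = 0 := by
      simpa [f, fc] using congrArg (fun φ => φ ≫ (biprod.snd : X p ⟶ _)) hx
    have hxd := (D' (p + 1)).hmono p rfl x hx3
    have hz : K.liftCycles x (p + 1) (by simp) hxd ≫ K.homologyπ p = 0 := by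
      have := (D' p).hιH
      rw [← cancel_mono (D' p).ιH, Category.assoc, ← (D' p).hgι, ← Category.assoc,
        K.liftCycles_i, hx2, zero_comp]
    rw [K.liftCycles_comp_homologyπ_eq_zero_iff_up_to_refinements (p - 1) p (p + 1) (by simp)
      (by simp)] at hz
    obtain ⟨T', π, hπ, w, hw⟩ := hz
    rw [← cancel_epi π, comp_zero, hw]
    exact (D' p).hmono (p - 1) (by omega) w (by rw [← Category.assoc, ← hw, Category.assoc, hx1,
      comp_zero])
  · have := (D' p).hιH
    have : HomologicalComplex.homologyMap f p ≫ a p = (D' p).ιH := by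
      rw [← cancel_epi (K.homologyπ p), HomologicalComplex.homologyπ_naturality_assoc, ha,
        HomologicalComplex.cyclesMap_i_assoc, ← (D' p).hgι]
      simp [f, fc]
    exact mono_of_mono_fac this

end Groth.Agent.CohDerLib.CE.Step
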