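import Groth.Prelude.Def_CE
import Groth.Agent.CohDerLib.CE.Step
import Mathlib.Algebra.Homology.HomologySequence
import Mathlib.Algebra.Homology.HomologicalComplexAbelian
import Mathlib.Algebra.Homology.Additive

/-!
# Splicing short exact sequences; cycles and homology of a monomorphism which is mono in homology
-/

universe v u v' u'

open CategoryTheory CategoryTheory.Limits
open scoped ZeroObject

namespace Groth.Agent.CohDerLib.CE.Splice

variable {A : Type u} [Category.{v} A] [Abelian A]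

/-- `S` stays short exact after applying `G` -/
def SESImage {D : Type u'} [Category.{v'} D] [Preadditive D] (G : D ⥤ A) {X Y Z : D}
    (f : X ⟶ Y) (g : Y ⟶ Z) : Prop :=
  Mono (G.map f) ∧ Epi (G.map g) ∧
    ∀ ⦃T : A⦄ (y : T ⟶ G.obj Y), y ≫ G.map g = 0 →
      ∃ (T' : A) (π : T' ⟶ T) (_ : Epi π) (x : T' ⟶ G.obj X), π ≫ y = x ≫ G.map f

lemma cycles_ses {S : ShortComplex (CochainComplex A ℤ)} (hS : S.ShortExact)
    (hf : ∀ p, Mono (HomologicalComplex.homologyMap S.f p)) (p : ℤ) :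
    SESImage (HomologicalComplex.cyclesFunctor A (ComplexShape.up ℤ) p) S.f S.g := by
  have := hS.mono_f
  have := hS.epi_g
  have hex : ∀ q, (S.map (HomologicalComplex.eval A (ComplexShape.up ℤ) q)).ShortExact :=
    fun q => hS.map_of_exact _
  have hHg : ∀ q, Epi (HomologicalComplex.homologyMap S.g q) := fun q => by
    have h₁ := hS.homology_exact₁ q (q + 1) (by simp)
    have hδ : hS.δ q (q + 1) (by simp) = 0 := by
      have := hf (q + 1)
      rw [← cancel_mono (HomologicalComplex.homologyMap S.f (q + 1)), zero_comp]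
      exact hS.δ_comp q (q + 1) (by simp)
    exact (hS.homology_exact₃ q (q + 1) (by simp)).epi_f hδ
  refine ⟨?_, ?_, fun T y hy => ?_⟩
  · change Mono (HomologicalComplex.cyclesMap S.f p)
    have : Mono (S.f.f p) := (hex p).mono_f
    exact mono_of_mono_fac (HomologicalComplex.cyclesMap_i S.f p)
  · change Epi (HomologicalComplex.cyclesMap S.g p)
    rw [epi_iff_surjective_up_to_refinements]
    intro T c
    have := hHg p
    obtain ⟨T₁, π₁, hπ₁, x, hx⟩ := surjective_up_to_refinements_of_epi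
      (HomologicalComplex.homologyMap S.g p) (c ≫ S.X₃.homologyπ p)
    obtain ⟨T₂, π₂, hπ₂, z, hz⟩ := surjective_up_to_refinements_of_epi (S.X₂.homologyπ p) x
    have hzero : (π₂ ≫ π₁ ≫ c - z ≫ HomologicalComplex.cyclesMap S.g p) ≫ S.X₃.homologyπ p = 0 := by
      rw [Preadditive.sub_comp, Category.assoc, Category.assoc, Category.assoc,
        ← HomologicalComplex.homologyπ_naturality, hx, ← reassoc_of% hz, sub_self]
    obtain ⟨T₃, π₃, hπ₃, w, hw⟩ :=
      (S.X₃.comp_homologyπ_eq_zero_iff_up_to_refinements (p - 1) p (by simp) _).1 hzero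
    have : Epi (S.g.f (p - 1)) := (hex (p - 1)).epi_g
    obtain ⟨T₄, π₄, hπ₄, v, hv⟩ := surjective_up_to_refinements_of_epi (S.g.f (p - 1)) w
    refine ⟨T₄, π₄ ≫ π₃ ≫ π₂ ≫ π₁, inferInstance,
      π₄ ≫ π₃ ≫ z + v ≫ S.X₂.toCycles (p - 1) p, ?_⟩
    rw [Preadditive.comp_sub, sub_eq_iff_eq_add] at hw
    have hnat : S.X₂.toCycles (p - 1) p ≫ HomologicalComplex.cyclesMap S.g p =
        S.g.f (p - 1) ≫ S.X₃.toCycles (p - 1) p := by
      rw [← cancel_mono (S.X₃.iCycles p)]
      simp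
    simp only [Category.assoc, Preadditive.add_comp, hw, Preadditive.comp_add, reassoc_of% hv,
      hnat]
    abel
  · have hexact : ∀ (T : A) (x : T ⟶ S.X₂.X p), x ≫ S.g.f p = 0 →
        ∃ (T' : A) (π : T' ⟶ T) (_ : Epi π) (k : T' ⟶ S.X₁.X p), π ≫ x = k ≫ S.f.f p :=
      fun T x hx => (hex p).exact.exact_up_to_refinements x hx
    have : Mono (S.f.f (p + 1)) := (hex (p + 1)).mono_f
    have key : ∀ (T : A) (y : T ⟶ S.X₂.cycles p), y ≫ HomologicalComplex.cyclesMap S.g p = 0 →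
        ∃ (T' : A) (π : T' ⟶ T) (_ : Epi π) (x : T' ⟶ S.X₁.cycles p),
          π ≫ y = x ≫ HomologicalComplex.cyclesMap S.f p := by
      intro T y hy
      obtain ⟨T', π, hπ, k, hk⟩ := hexact T (y ≫ S.X₂.iCycles p)
        (by rw [Category.assoc, ← HomologicalComplex.cyclesMap_i, reassoc_of% hy, zero_comp])
      refine ⟨T', π, hπ, S.X₁.liftCycles k (p + 1) (by simp) ?_, ?_⟩
      · rw [← cancel_mono (S.f.f (p + 1)), zero_comp, Category.assoc, ← S.f.comm p (p + 1),
          ← reassoc_of% hk, S.X₂.iCycles_d, comp_zero, comp_zero]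
      · rw [← cancel_mono (S.X₂.iCycles p)]
        simp [hk]
    exact key T y hy

lemma homology_ses {S : ShortComplex (CochainComplex A ℤ)} (hS : S.ShortExact)
    (hf : ∀ p, Mono (HomologicalComplex.homologyMap S.f p)) (p : ℤ) :
    SESImage (HomologicalComplex.homologyFunctor A (ComplexShape.up ℤ) p) S.f S.g := by
  refine ⟨hf p, ?_, fun T y hy => (hS.homology_exact₂ p).exact_up_to_refinements y hy⟩
  have hδ : hS.δ p (p + 1) (by simp) = 0 := by
    have := hf (p + 1)
    rw [← cancel_mono (HomologicalComplex.homologyMap S.f (p + 1)), zero_comp]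
    exact hS.δ_comp p (p + 1) (by simp)
  exact (hS.homology_exact₃ p (p + 1) (by simp)).epi_f hδ

lemma eval_ses {S : ShortComplex (CochainComplex A ℤ)} (hS : S.ShortExact) (p : ℤ) :
    SESImage (HomologicalComplex.eval A (ComplexShape.up ℤ) p) S.f S.g :=
  have h := hS.map_of_exact (HomologicalComplex.eval A (ComplexShape.up ℤ) p)
  ⟨h.mono_f, h.epi_g, fun _ y hy => h.exact.exact_up_to_refinements y hy⟩

variable {D : Type u'} [Category.{v'} D] [Preadditive D] [HasZeroObject D]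

/-- data for splicing -/
structure Seq (D : Type u') [Category.{v'} D] [Preadditive D] where
  C : ℕ → D
  I : ℕ → D
  f : ∀ q, C q ⟶ I q
  g : ∀ q, I q ⟶ C (q + 1)
  w : ∀ q, f q ≫ g q = 0

variable (Sq : Seq D)

/-- the objects of the spliced complex -/
noncomputable def X : ℤ → D
  | Int.ofNat k => Sq.I k
  | Int.negSucc _ => 0

/-- the differential of the spliced complex -/
noncomputable def d : ∀ q : ℤ, X Sq q ⟶ X Sq (q + 1)
  | Int.ofNat k => Sq.g k ≫ Sq.f (k + 1)
  | Int.negSucc _ => 0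

lemma d_d : ∀ q : ℤ, d Sq q ≫ d Sq (q + 1) = 0
  | Int.ofNat k => by
    change (Sq.g k ≫ Sq.f (k + 1)) ≫ Sq.g (k + 1) ≫ Sq.f (k + 1 + 1) = 0
    rw [Category.assoc, ← Category.assoc (Sq.f (k + 1)), Sq.w, zero_comp, comp_zero]
  | Int.negSucc _ => zero_comp

/-- the spliced complex -/
noncomputable def cx : CochainComplex D ℤ := CochainComplex.of (X Sq) (d Sq) (d_d Sq)

lemma cx_d_ofNat (k : ℕ) : (cx Sq).d (k : ℤ) ((k : ℤ) + 1) = Sq.g k ≫ Sq.f (k + 1) := by
  simp only [cx, CochainComplex.of_d]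
  rfl

theorem isInjResolutionVia (G : D ⥤ A) [G.PreservesZeroMorphisms]
    (hG : ∀ q, SESImage G (Sq.f q) (Sq.g q)) (hinj : ∀ q, Injective (G.obj (Sq.I q))) :
    _root_.CE.IsInjResolutionVia ((G.mapHomologicalComplex (ComplexShape.up ℤ)).obj (cx Sq))
      (G.obj (Sq.C 0)) (G.map (Sq.f 0)) := by
  have hneg : ∀ q : ℤ, q < 0 → IsZero (G.obj ((cx Sq).X q)) := fun q hq => by
    obtain ⟨k, rfl⟩ := Int.eq_negSucc_of_lt_zero hq
    exact G.map_isZero (show IsZero (0 : D) from isZero_zero D)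
  have hd : ∀ (k : ℕ) {T : A} (x : T ⟶ G.obj (Sq.I k)),
      x ≫ G.map (Sq.g k ≫ Sq.f (k + 1)) = 0 →
      ∃ (T' : A) (π : T' ⟶ T) (_ : Epi π) (y : T' ⟶ G.obj (Sq.C k)), π ≫ x = y ≫ G.map (Sq.f k) :=
    fun k T x hx => by
      refine (hG k).2.2 x ?_
      have := (hG (k + 1)).1
      rwa [G.map_comp, ← Category.assoc, ← zero_comp (f := G.map (Sq.f (k + 1))), cancel_mono] at hx
  refine ⟨?_, ?_, ?_, ?_, (hG 0).1, ?_⟩
  · change G.map (Sq.f 0) ≫ G.map ((cx Sq).d ((0 : ℕ) : ℤ) ((0 : ℕ) + 1)) = 0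
    rw [cx_d_ofNat]
    have e : Sq.f 0 ≫ Sq.g 0 ≫ Sq.f (0 + 1) = 0 := by rw [reassoc_of% (Sq.w 0), zero_comp]
    exact (G.map_comp _ _).symm.trans ((congrArg G.map e).trans (G.map_zero _ _))
  · rw [CochainComplex.isStrictlyGE_iff]
    exact fun i hi => hneg i hi
  · intro q
    rcases lt_or_ge q 0 with hq | hq
    · exact ⟨fun _ _ _ => ⟨0, (hneg q hq).eq_of_tgt _ _⟩⟩
    · obtain ⟨k, rfl⟩ := Int.eq_ofNat_of_zero_le hq
      exact hinj k
  · intro q hq
    rcases lt_or_ge q 0 with hq' | hq'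
    · rw [HomologicalComplex.exactAt_iff' _ (q - 1) q (q + 1) (by simp) (by simp)]
      exact ShortComplex.exact_of_isZero_X₂ _ (hneg q hq')
    · obtain ⟨k, rfl⟩ : ∃ k : ℕ, q = (k : ℤ) + 1 := ⟨(q - 1).toNat, by omega⟩
      rw [HomologicalComplex.exactAt_iff_exact_up_to_refinements _ (k : ℤ) ((k : ℤ) + 1)
        ((k : ℤ) + 1 + 1) (by simp) (by simp)]
      intro T x hx
      have hx' : x ≫ G.map ((cx Sq).d (((k + 1 : ℕ)) : ℤ) (((k + 1 : ℕ) : ℤ) + 1)) = 0 := hx
      rw [cx_d_ofNat] at hx'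
      obtain ⟨T', π, hπ, y, hy⟩ := hd (k + 1) x hx'
      have := (hG k).2.1
      obtain ⟨T'', π', hπ', z, hz⟩ := surjective_up_to_refinements_of_epi (G.map (Sq.g k)) y
      refine ⟨T'', π' ≫ π, inferInstance, z, ?_⟩
      change _ = z ≫ G.map ((cx Sq).d (k : ℤ) ((k : ℤ) + 1))
      rw [cx_d_ofNat, Category.assoc]
      exact (congrArg (π' ≫ ·) hy).trans ((Category.assoc _ _ _).symm.trans
        ((congrArg (· ≫ _) hz).trans ((Category.assoc _ _ _).trans
          (congrArg (z ≫ ·) (G.map_comp _ _).symm))))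
  · rw [ShortComplex.exact_iff_exact_up_to_refinements]
    intro T x hx
    have key : ∀ (y : T ⟶ G.obj (Sq.I 0)),
        y ≫ G.map ((cx Sq).d ((0 : ℕ) : ℤ) (((0 : ℕ) : ℤ) + 1)) = 0 →
        ∃ (T' : A) (π : T' ⟶ T) (_ : Epi π) (z : T' ⟶ G.obj (Sq.C 0)),
          π ≫ y = z ≫ G.map (Sq.f 0) := fun y hy =>
      hd 0 y ((congrArg (fun φ => y ≫ G.map φ) (cx_d_ofNat Sq 0)).symm.trans hy)
    exact key x hx

variable [EnoughInjectives A]

theorem exists_ce (K : CochainComplex A ℤ) (n : ℤ) [K.IsStrictlyGE n] :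
    ∃ (I : CochainComplex (CochainComplex A ℤ) ℤ) (ε : K ⟶ I.X 0) (_ : ε ≫ I.d 0 1 = 0),
      (∃ i : ℤ, ∀ p q : ℤ, p < i → IsZero ((I.X q).X p)) ∧
      (∀ p : ℤ, _root_.CE.IsInjResolutionVia (((HomologicalComplex.eval A (ComplexShape.up ℤ) p).mapHomologicalComplex (ComplexShape.up ℤ)).obj I) (K.X p) (ε.f p)) ∧
      (∀ p : ℤ, _root_.CE.IsInjResolutionVia (((HomologicalComplex.cyclesFunctor A (ComplexShape.up ℤ) p).mapHomologicalComplex (ComplexShape.up ℤ)).obj I) (K.cycles p) (HomologicalComplex.cyclesMap ε p)) ∧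
      (∀ p : ℤ, _root_.CE.IsInjResolutionVia (((HomologicalComplex.homologyFunctor A (ComplexShape.up ℤ) p).mapHomologicalComplex (ComplexShape.up ℤ)).obj I) (K.homology p) (HomologicalComplex.homologyMap ε p)) := by
  let Obj := { C : CochainComplex A ℤ // C.IsStrictlyGE n }
  have hstep : ∀ C : Obj, ∃ (I : CochainComplex A ℤ) (f : C.1 ⟶ I), I.IsStrictlyGE n ∧
      (∀ p, Injective (I.X p) ∧ Injective (I.cycles p) ∧ Injective (I.homology p)) ∧
      Mono f ∧ ∀ p, Mono (HomologicalComplex.homologyMap f p) := fun C =>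
    have := C.2
    Step.exists_step C.1 n
  choose I f hI hinj hm hH using hstep
  let next : Obj → Obj := fun C => ⟨cokernel (f C), by
    have := hI C
    rw [CochainComplex.isStrictlyGE_iff]
    intro i hi
    exact IsZero.of_epi ((cokernel.π (f C)).f i) ((I C).isZero_of_isStrictlyGE n i hi)⟩
  let Cs : ℕ → Obj := fun q => Nat.rec ⟨K, inferInstance⟩ (fun _ C => next C) q
  let S : Seq (CochainComplex A ℤ) :=
    { C := fun q => (Cs q).1
      I := fun q => I (Cs q)
      f := fun q => f (Cs q)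
      g := fun q => cokernel.π (f (Cs q))
      w := fun q => cokernel.condition _ }
  have hS : ∀ q, (ShortComplex.mk (S.f q) (S.g q) (S.w q)).ShortExact := fun q =>
    have := hm (Cs q)
    { exact := ShortComplex.exact_cokernel (f (Cs q))
      mono_f := hm (Cs q)
      epi_g := inferInstanceAs (Epi (cokernel.π (f (Cs q)))) }
  refine ⟨cx S, S.f 0, ?_, ⟨n, fun p q hp => ?_⟩, fun p => ?_, fun p => ?_, fun p => ?_⟩
  · change S.f 0 ≫ (cx S).d ((0 : ℕ) : ℤ) (((0 : ℕ) : ℤ) + 1) = 0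
    have e : S.f 0 ≫ S.g 0 ≫ S.f (0 + 1) = 0 := by rw [reassoc_of% (S.w 0), zero_comp]
    rw [cx_d_ofNat]
    exact e
  · rcases q with k | k
    · have := hI (Cs k)
      exact (I (Cs k)).isZero_of_isStrictlyGE n p hp
    · exact (HomologicalComplex.eval A (ComplexShape.up ℤ) p).map_isZero (isZero_zero _)
  · exact isInjResolutionVia S (HomologicalComplex.eval A (ComplexShape.up ℤ) p)
      (fun q => eval_ses (hS q) p) (fun q => (hinj (Cs q) p).1)
  · exact isInjResolutionVia S (HomologicalComplex.cyclesFunctor A (ComplexShape.up ℤ) p)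
      (fun q => cycles_ses (hS q) (hH (Cs q)) p) (fun q => (hinj (Cs q) p).2.1)
  · exact isInjResolutionVia S (HomologicalComplex.homologyFunctor A (ComplexShape.up ℤ) p)
      (fun q => homology_ses (hS q) (hH (Cs q)) p) (fun q => (hinj (Cs q) p).2.2)

end Groth.Agent.CohDerLib.CE.Splice
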